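import Groth.Agent.S0910
import Groth.Agent.PerfNoethLib.PCCoh
import Groth.Agent.TensorCohLib.Basic
import Groth.Agent.TensorPCLib.External
import Groth.Agent.CohGenLib.PullK
import Groth.Agent.ConsLib.ModLoci
import Groth.Prelude.Def_HTor

/-! Coherence of local hypertor sheaves. -/

set_option autoImplicit false
set_option backward.isDefEq.respectTransparency false
set_option backward.isDefEq.respectTransparency.types false

universe u

open CategoryTheory CategoryTheory.Limits AlgebraicGeometry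

attribute [local instance] HasDerivedCategory.standard

namespace HTorCohLib

variable {X Y Z : Scheme.{u}}

/-- Derived pullback keeps bounded above coherent cohomology. -/
theorem isCohD_lpull [IsLocallyNoetherian X] [IsLocallyNoetherian Z] (p : Z ⟶ X) [DCoh.HasLpull p]
    (K : DCoh.D X) (b : ℤ) [K.IsLE b] (hK : DCoh.IsCohD K) :
    DCoh.IsCohD ((DCoh.Lpull p).obj K) ∧ ((DCoh.Lpull p).obj K).IsLE b := by
  refine ⟨fun i => ?_, TensorPCLib.isLE_lpull p K b⟩
  have hq : DCoh.IsQCohD ((DCoh.Lpull p).obj K) := KFlatLib.isQCohD_lpull p K fun j => (hK j).1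
  have hpc : DCoh.IsPseudoCoherentD i ((DCoh.Lpull p).obj K) :=
    Groth.Agent.S0910.result p i K (Groth.Agent.PerfNoethLib.isPC_of_coherent (fun j _ => hK j) (b := b))
  choose U c hxU hft hz using Groth.Agent.PerfNoethLib.exists_nbhd hpc
  exact Groth.Agent.PerfLib.isCoh_of_cover _ U
    (eq_top_iff.2 fun q _ => TopologicalSpace.Opens.mem_iSup.2 ⟨q, hxU q⟩)
    fun q =>
      haveI := hq i
      ⟨Groth.Agent.PerfDualLib.isQCoh_restrict (DCoh.HD _ i) (U q), hft q⟩

/-- Flat termwise pullback keeps coherent cohomology. -/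
theorem isCohD_pullCx (q : Z ⟶ Y) [Flat q] (Q : CochainComplex Y.Modules ℤ) (hQ : DCoh.IsCohD (DCoh.toD Y Q)) :
    DCoh.IsCohD (DCoh.toD Z ((HTor.pullCx q).obj Q)) := fun i => by
  haveI := CohGenLib.preservesFiniteLimits_pullback_flat q
  haveI : (Scheme.Modules.pullback q).PreservesHomology := inferInstance
  have hP : Coh.IsCoh (Q.homology i) :=
    QCohLib.isCoh_of_iso ((DerivedCategory.homologyFunctorFactors Y.Modules i).app Q) (hQ i)
  exact QCohLib.isCoh_of_iso (((DerivedCategory.homologyFunctorFactors Z.Modules i).app ((HTor.pullCx q).obj Q) ≪≫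
    ((Q.sc i).mapHomologyIso (Scheme.Modules.pullback q) :
      ((HTor.pullCx q).obj Q).homology i ≅ (Scheme.Modules.pullback q).obj (Q.homology i))).symm)
        (ConsLib.isCoh_pullback q hP)

theorem isZero_homology_of_above (Q : CochainComplex Y.Modules ℤ) (b : ℤ) (hb : ∀ i, b < i → IsZero (Q.X i))
    (i : ℤ) (hi : b < i) : IsZero (DCoh.HD (DCoh.toD Y Q) i) :=
  IsZero.of_iso ((HomologicalComplex.exactAt_iff_isZero_homology _ _).1
    (ShortComplex.exact_of_isZero_X₂ _ (hb i hi))) ((DerivedCategory.homologyFunctorFactors Y.Modules i).app Q)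

/-- Local hypertor sheaves are coherent. -/
theorem isCohD_tor [IsLocallyNoetherian X] [IsLocallyNoetherian Z] (p : Z ⟶ X) (q : Z ⟶ Y) [Flat q]
    (K : DCoh.D X) (a : ℤ) [K.IsLE a] (hK : DCoh.IsCohD K) (Q : CochainComplex Y.Modules ℤ) (b : ℤ)
    (hb : ∀ i, b < i → IsZero (Q.X i)) (hQ : DCoh.IsCohD (DCoh.toD Y Q))
    [DCoh.HasLpull p] [DCoh.HasLTensorCx ((HTor.pullCx q).obj Q)] :
    DCoh.IsCohD ((DCoh.LTensorCx ((HTor.pullCx q).obj Q)).obj ((DCoh.Lpull p).obj K)) := by
  obtain ⟨h1, h2⟩ := isCohD_lpull p K a hK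
  haveI := h2
  haveI : (DCoh.toD Z ((HTor.pullCx q).obj Q)).IsLE b := (DerivedCategory.isLE_iff _ b).2 fun i hi =>
    isZero_homology_of_above _ b (fun j hj => (Scheme.Modules.pullback q).map_isZero (hb j hj)) i hi
  exact (Groth.Agent.TensorCohLib.isCohD_lTensorCx _ _ a b h1 (isCohD_pullCx q Q hQ)).1

theorem isCohD_inD {F : X.Modules} (hF : Coh.IsCoh F) : DCoh.IsCohD (DCoh.inD X F) := fun i => by
  by_cases hi : i = 0
  · subst hi
    exact QCohLib.isCoh_of_iso ((DerivedCategory.singleFunctorCompHomologyFunctorIso X.Modules 0).app F).symm hF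
  · refine DevissLib.isCoh_of_isZero ?_
    rcases lt_or_gt_of_ne hi with h | h
    · exact DerivedCategory.isZero_of_isGE ((DerivedCategory.singleFunctor X.Modules 0).obj F) 0 i h
    · exact DerivedCategory.isZero_of_isLE ((DerivedCategory.singleFunctor X.Modules 0).obj F) 0 i h

theorem isCohD_single {G : Y.Modules} (hG : Coh.IsCoh G) :
    DCoh.IsCohD (DCoh.toD Y ((HomologicalComplex.single Y.Modules (ComplexShape.up ℤ) 0).obj G)) := fun i => by
  refine QCohLib.isCoh_of_iso ((DerivedCategory.homologyFunctorFactors Y.Modules i).app _).symm ?_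
  by_cases hi : i = 0
  · subst hi
    exact QCohLib.isCoh_of_iso (HomologicalComplex.singleObjHomologySelfIso (ComplexShape.up ℤ) 0 G).symm hG
  · exact DevissLib.isCoh_of_isZero ((HomologicalComplex.exactAt_iff_isZero_homology _ _).1
      (ShortComplex.exact_of_isZero_X₂ _ (HomologicalComplex.isZero_single_obj_X (ComplexShape.up ℤ) 0 G i hi)))

end HTorCohLib
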